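import Cfsg.Agent.H129.StCover

/-!
# A diagonal element of a twisted torus (helper949)

`exists_corr` : an element of the twisted torus, fixed by the Frobenius map, which does not lie in the image of the
finite group (centre of the Steinberg group not trivial, fixed by the Frobenius map). After
`H129.StCover.not_mem_range`, without the cyclicity of the torus.
-/

set_option autoImplicit false
set_option linter.unusedSectionVars false

namespace Cfsg.Agent.H949.PB

open CoxeterSystem Cfsg Cfsg.Lie Cfsg.Lie.ChevalleyDatum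
open Cfsg.Agent.ChevalleyStructure Cfsg.Agent.ChevalleyStructure.Elts Cfsg.Agent.ChevalleyStructure.CoxeterGeom
  Cfsg.Agent.ChevalleyStructure.CoxeterGeomTypes Cfsg.Agent.ChevalleyStructure.NPerm
open Cfsg.Agent.Tits.Roots Cfsg.Agent.Tits.Core Cfsg.Agent.Nodes Cfsg.Agent.Nodes.Reps Cfsg.Agent.Nodes.BNOf
  Cfsg.Agent.Nodes.RGDChev
open Cfsg.Agent.KFacts.RgdChevCoord Cfsg.Agent.GpExc.Field Cfsg.Agent.H129.TorusUntw
open Cfsg.Agent.ChevalleyStructure.StBasic Cfsg.Agent.ChevalleyStructure.StTheta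
open Cfsg.Agent.H129.StCover

universe u

section Corr

variable {D : ChevalleyDatum} {l : ℕ} {M : CoxeterMatrix (Fin l)} (hp : IsType D l M) {k : Type u} [Field k]
  [IsAlgClosed k] {W : Type*} [Group W] (cs : CoxeterSystem M W) {p e : ℕ} [Fact p.Prime] [CharP k p]
  {Φ : (Fin D.rank → kˣ) →* D.SteinbergGroup k} (hΦ : IsPhi Φ)

include hp cs hΦ in
/-- **A diagonal element of a twisted torus.** -/
theorem exists_corr {F : Type u} [Field F] [Fintype F] (f : F →+* k) (hq : Fintype.card F = p ^ e)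
    {c : Fin D.rank → kˣ} (hc : ∀ s < D.nroots, ∏ i : Fin D.rank, c i ^ D.cartan i s = 1) (hc1 : c ≠ 1)
    (hfix : ∀ b : Fin D.rank → kˣ, (∀ s < D.nroots, ∏ i : Fin D.rank, b i ^ D.cartan i s = 1) → ∀ i,
      b i ^ p ^ e = b i)
    {hN : NSys M (TT D k) (nc hp k)} {w : W} {n z : ↥(D.group k)} (hn : Rp cs hN w n)
    (hz : n = z⁻¹ * phi D k p e z) :
    ∃ s ∈ TT D k, n * phi D k p e s * n⁻¹ = s ∧ z * s * z⁻¹ ∉ (emb hp.inList f).range := by
  have hD := hp.inList
  have hq2 : 2 ≤ p ^ e := by rw [← hq]; exact Fintype.one_lt_card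
  set φ : k →+* k := iterateFrobenius k p e with hφ
  have hφf : φ.comp f = f := by
    ext a
    exact (frob_fix_iff f hq (f a)).2 ⟨a, rfl⟩
  -- the representative
  obtain ⟨ω, rfl⟩ := cs.wordProd_surjective w
  have hrp : Rp cs hN (cs.wordProd ω) (theta hD k (nW D k ω)) := by
    clear hn
    induction ω with
    | nil =>
      rw [wordProd_nil]
      have : theta hD k (nW D k ([] : List (Fin l))) = 1 := by simp [nW]
      rw [this]
      exact rp_one
    | cons i ω ih =>
      rw [wordProd_cons, nW_cons, map_mul, theta_stn_simple hp]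
      exact (rp_simple cs hN i).mul ih
  have ht0 : (theta hD k (nW D k ω))⁻¹ * n ∈ TT D k := hrp.unique hn
  obtain ⟨A, hA⟩ := exists_matrix hD hΦ (lt_rank hp) ω
  -- the solution
  obtain ⟨b, hb⟩ := exists_solution A hq2 c
  have hσb : stMap D φ (Φ b) = Φ (fun i => b i ^ p ^ e) := by
    rw [stMap_phi hΦ]
    refine congrArg Φ (funext fun i => Units.ext ?_)
    rw [Units.val_pow_eq_pow_val]
    exact iterateFrobenius_def _ _ _
  have hτ : nW D k ω * stMap D φ (Φ b) * (nW D k ω)⁻¹ = Φ b * Φ c := by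
    rw [hσb, hA, hb, map_mul]
  have hcc : Φ c ∈ Subgroup.center (D.SteinbergGroup k) := (hΦ.mem_iff c).2 hc
  have hθc : theta hD k (Φ c) = 1 := by
    rw [← MonoidHom.mem_ker, ker_theta hD]; exact hcc
  have hθσ : ∀ x : D.SteinbergGroup k, theta hD k (stMap D φ x) = phi D k p e (theta hD k x) := fun x => by
    rw [theta_stMap, phi_eq hp]
  -- the element `s`
  have hs : theta hD k (Φ b) ∈ TT D k := theta_phi_mem hD hΦ b
  have hσs : phi D k p e (theta hD k (Φ b)) ∈ TT D k := (( fr_phi hp cs).tor _).2 hs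
  have hns : n * phi D k p e (theta hD k (Φ b)) * n⁻¹ = theta hD k (Φ b) := by
    have h1 := congrArg (theta hD k) hτ
    rw [map_mul, map_mul, map_inv, map_mul, hθc, mul_one, hθσ] at h1
    have h2 : n = theta hD k (nW D k ω) * ((theta hD k (nW D k ω))⁻¹ * n) := by group
    have h3 := Cfsg.Agent.BpExc.TorChev.TT_comm hp _ ht0 _ hσs
    rw [h2]
    calc theta hD k (nW D k ω) * ((theta hD k (nW D k ω))⁻¹ * n) * phi D k p e (theta hD k (Φ b)) *
          (theta hD k (nW D k ω) * ((theta hD k (nW D k ω))⁻¹ * n))⁻¹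
        = theta hD k (nW D k ω) * ((((theta hD k (nW D k ω))⁻¹ * n) * phi D k p e (theta hD k (Φ b))) *
          ((theta hD k (nW D k ω))⁻¹ * n)⁻¹) * (theta hD k (nW D k ω))⁻¹ := by group
      _ = theta hD k (nW D k ω) * phi D k p e (theta hD k (Φ b)) * (theta hD k (nW D k ω))⁻¹ := by
        rw [h3]; group
      _ = _ := h1
  refine ⟨theta hD k (Φ b), hs, hns, fun hzs => ?_⟩
  obtain ⟨x, hx⟩ := hzs
  obtain ⟨x', rfl⟩ := theta_surjective hD x
  obtain ⟨z', rfl⟩ := theta_surjective hD z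
  set E := stMap D f x' with hE
  have hEfix : stMap D φ E = E := by rw [hE, stMap_comp, hφf]
  have hθE : theta hD k E = theta hD k (z' * Φ b * z'⁻¹) := by
    rw [hE, theta_stMap, hx, map_mul, map_mul, map_inv]
  have key : ∀ {x y : D.SteinbergGroup k}, theta hD k x = theta hD k y →
      ∃ κ ∈ Subgroup.center (D.SteinbergGroup k), y = x * κ := by
    intro x y hxy
    refine ⟨x⁻¹ * y, ?_, by group⟩
    rw [← ker_theta hD, MonoidHom.mem_ker, map_mul, map_inv, hxy, inv_mul_cancel]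
  obtain ⟨κ, hκ, h1⟩ := key hθE
  -- the Frobenius map is trivial on the centre
  have hcen : ∀ κ ∈ Subgroup.center (D.SteinbergGroup k), stMap D φ κ = κ := by
    intro κ hκ
    obtain ⟨a, rfl⟩ := hΦ.center_le hκ
    have h2 := hfix a ((hΦ.mem_iff a).1 hκ)
    rw [stMap_phi hΦ]
    refine congrArg Φ (funext fun i => Units.ext ?_)
    have h3 := congrArg Units.val (h2 i)
    rw [Units.val_pow_eq_pow_val] at h3
    exact (iterateFrobenius_def _ _ _).trans h3
  -- the lift of `z`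
  obtain ⟨a, ha⟩ := exists_theta_phi hΦ hp ht0
  have hθn : theta hD k (nW D k ω * Φ a) = theta hD k (z'⁻¹ * stMap D φ z') := by
    rw [map_mul, ha, map_mul, map_inv, hθσ, ← hz]
    group
  obtain ⟨κ', hκ', h2⟩ := key hθn
  have h3 : stMap D φ z' = z' * (nW D k ω * Φ a * κ') := by rw [← h2]; group
  have hκc : ∀ x : D.SteinbergGroup k, κ' * x * κ'⁻¹ = x := fun x => by
    rw [← Subgroup.mem_center_iff.1 hκ' x, mul_inv_cancel_right]
  have h4 : stMap D φ (z' * Φ b * z'⁻¹) = z' * (Φ b * Φ c) * z'⁻¹ := by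
    rw [map_mul, map_mul, map_inv, h3, ← hτ]
    have h5 : Φ a * stMap D φ (Φ b) * (Φ a)⁻¹ = stMap D φ (Φ b) := by
      rw [hσb, ← map_mul, ← map_inv, ← map_mul]
      congr 1
      exact mul_inv_cancel_comm _ _
    calc z' * (nW D k ω * Φ a * κ') * stMap D φ (Φ b) * (z' * (nW D k ω * Φ a * κ'))⁻¹
        = z' * (nW D k ω * (Φ a * (κ' * stMap D φ (Φ b) * κ'⁻¹) * (Φ a)⁻¹) * (nW D k ω)⁻¹) * z'⁻¹ := by group
      _ = z' * (nW D k ω * stMap D φ (Φ b) * (nW D k ω)⁻¹) * z'⁻¹ := by rw [hκc, h5]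
  rw [h1, map_mul, hEfix, hcen κ hκ, ← h1] at h4
  have h5 : Φ c = 1 := by
    have h6 : z' * Φ b * z'⁻¹ = z' * Φ b * Φ c * z'⁻¹ := by rw [h4]; group
    have h7 := mul_right_cancel h6
    exact (mul_eq_left.1 h7.symm)
  exact hc1 (hΦ.inj (by rw [h5, map_one]))

end Corr

end Cfsg.Agent.H949.PB
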