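import Cfsg.Agent.H726.PB.StExc

/-!
# The indices of the parabolic subgroups of `E₇(r)` modulo `q`, `q ∣ r² + 1` (helper949)

`g = |G : P_{E₆}|`: `q ∤ g`, the indices of `P_{D₅}`, `P_{D₅'}`, `P_{D₄}` (inside `E₆`) are `3 g, 3 g, 6 g`, and `q` divides
the index of `P_K` if `K` does not contain the `D₄` `{1, 2, 3, 4}`.
-/

set_option autoImplicit false
set_option linter.unusedSectionVars false
set_option linter.unusedVariables false

namespace Cfsg.Agent.H949.PB

open CoxeterSystem Cfsg.Agent.ChevalleyStructure.CoxeterGeom Cfsg.Agent.Tits.Roots Cfsg.Agent.Tits.Core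
  Cfsg.Agent.Tits.RootComb Cfsg.Agent.Nodes.Reps Cfsg.Agent.Nodes.BNOf
  Cfsg.Agent.Nodes.StabComb Cfsg.Agent.Nodes.Bruhat Cfsg.Agent.Nodes.LeviDec Cfsg.Agent.H35.Poin
  Cfsg.Agent.H35.PoinNum Cfsg.Agent.H35.ExcIdx Cfsg.Agent.H134.StrP
  Cfsg.Agent.ChevalleyStructure.CoxeterGeomTypes Cfsg.Lie Cfsg.Agent.H116.RatB0
open Cfsg.Agent.Nodes.RGDChev Cfsg.Agent.ChevalleyStructure.NPerm
open Cfsg

universe u

variable (K : Type u) [Field K] [Fintype K]

/-- the parabolic subgroups of `E₇(K)` -/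
abbrev P7 (J : Set (Fin 7)) : Subgroup ↥(chevE7.group K) :=
  PJ CoxeterMatrix.E₇.toCoxeterSystem hpE7.isCartan (TT chevE7 K) (XX chevE7 7 K) J

theorem idx7 {J : List (Fin 7)} {dJ : List ℕ} (h : ∀ (r f : ℕ) (_ : Fact r.Prime) (_ : CharP K r)
      (_ : f ≠ 0) (_ : Fintype.card K = r ^ f) (_ : Finite CoxeterMatrix.E₇.Group)
      (_ : RGD CoxeterMatrix.E₇.toCoxeterSystem hpE7.isCartan r (TT chevE7 K)
        (fun i => (⟨nn hpE7 K i, nn_mem_group hpE7 i⟩ : ↥(chevE7.group K))) (XX chevE7 7 K))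
      (_ : 2 ≤ r ^ f) (_ : ∀ i, Nat.card (XX chevE7 7 K (sr i)) = r ^ f),
      ParOrd CoxeterMatrix.E₇.toCoxeterSystem hpE7.isCartan (TT chevE7 K) (XX chevE7 7 K) (r ^ f) 7 J dJ) :
    (P7 K {j | j ∈ J}).index * pr (Fintype.card K) dJ = pr (Fintype.card K) [2, 6, 8, 10, 12, 14, 18] := by
  obtain ⟨r, f, hrc, hr, hf, hK⟩ := exists_pow K
  have h2 := two_le hr hf
  have hrF : Fact r.Prime := ⟨hr⟩
  have hfin := finite_W hpE7 CoxeterMatrix.E₇.toCoxeterSystem
  have hR := rgd (K := K) hpE7 CoxeterMatrix.E₇.toCoxeterSystem r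
  have hc : ∀ i, Nat.card (XX chevE7 7 K (sr i)) = r ^ f := fun i => by
    rw [card_XX hpE7 K CoxeterMatrix.E₇.toCoxeterSystem (isRoot_sr _ _ i), Nat.card_eq_fintype_card, hK]
  rw [hK]
  refine idx_of_parOrd hpE7 K hr hf hK CoxeterMatrix.E₇.toCoxeterSystem (g := Nat.gcd 2 (r ^ f - 1))
    (Nat.gcd_dvd_right _ _)
    (by rw [← hK]; exact Cfsg.Agent.S1035.result rfl (chevE7, Nat.gcd 2 (Fintype.card K - 1)) (by simp))
    (by decide) ⟨f * 63, ?_⟩ (h r f hrF hrc hf hK hfin hR h2 hc)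
  have h3 := Cfsg.Agent.S1064.result hK
  rw [pow_mul]
  simp only [pr_cons, pr_nil]
  rw [h3]
  ring

theorem idx_E6 : (P7 K {j | j ∈ ([0, 1, 2, 3, 4, 5] : List (Fin 7))}).index *
    pr (Fintype.card K) [1, 2, 5, 6, 8, 9, 12] = pr (Fintype.card K) [2, 6, 8, 10, 12, 14, 18] :=
  idx7 K fun r f _ _ _ _ _ R h2 hs => oE7_012345 R h2 hs

theorem idx_D5 : (P7 K {j | j ∈ ([0, 1, 2, 3, 4] : List (Fin 7))}).index *
    pr (Fintype.card K) [1, 1, 2, 4, 5, 6, 8] = pr (Fintype.card K) [2, 6, 8, 10, 12, 14, 18] :=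
  idx7 K fun r f _ _ _ _ _ R h2 hs => oE7_01234 R h2 hs

theorem idx_D5' : (P7 K {j | j ∈ ([1, 2, 3, 4, 5] : List (Fin 7))}).index *
    pr (Fintype.card K) [1, 1, 2, 4, 5, 6, 8] = pr (Fintype.card K) [2, 6, 8, 10, 12, 14, 18] :=
  idx7 K fun r f _ _ _ _ _ R h2 hs => oE7_12345 R h2 hs

theorem idx_D4 : (P7 K {j | j ∈ ([1, 2, 3, 4] : List (Fin 7))}).index *
    pr (Fintype.card K) [1, 1, 1, 2, 4, 4, 6] = pr (Fintype.card K) [2, 6, 8, 10, 12, 14, 18] :=
  idx7 K fun r f _ _ _ _ _ R h2 hs => oE7_1234 R h2 hs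

section Mod

variable {K} {q : ℕ} [hq : Fact q.Prime] (hq2 : q ≠ 2) (hqK : (q : K) ≠ 0)
  (h4 : orderOf ((Fintype.card K : ℕ) : ZMod q) = 4)

include h4

theorem sq_eq : ((Fintype.card K : ℕ) : ZMod q) ^ 2 = -1 := by
  have h1 : (((Fintype.card K : ℕ) : ZMod q) ^ 2 - 1) * (((Fintype.card K : ℕ) : ZMod q) ^ 2 + 1) = 0 := by
    have h2 : ((Fintype.card K : ℕ) : ZMod q) ^ 4 = 1 := by rw [← h4]; exact pow_orderOf_eq_one _
    linear_combination h2
  rcases mul_eq_zero.1 h1 with h2 | h2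
  · exfalso
    have h3 : ((Fintype.card K : ℕ) : ZMod q) ^ 2 = 1 := sub_eq_zero.1 h2
    have h5 := orderOf_dvd_of_pow_eq_one h3
    rw [h4] at h5
    omega
  · exact eq_neg_of_add_eq_zero_left h2

theorem cast_pr (l : List ℕ) : ((pr (Fintype.card K) l : ℕ) : ZMod q) =
    (l.map fun d => ((Fintype.card K : ℕ) : ZMod q) ^ d - 1).prod := by
  have h1 : 1 ≤ Fintype.card K := Fintype.card_pos
  induction l with
  | nil => simp [pr_nil]
  | cons d l ih =>
    rw [pr_cons, Nat.cast_mul, ih, List.map_cons, List.prod_cons, Nat.cast_sub (Nat.one_le_pow _ _ h1), Nat.cast_pow,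
      Nat.cast_one]

theorem sub_one_ne : ((Fintype.card K : ℕ) : ZMod q) - 1 ≠ 0 := by
  intro h
  have h1 : ((Fintype.card K : ℕ) : ZMod q) = 1 := sub_eq_zero.1 h
  rw [h1, orderOf_one] at h4
  omega

/-- cancellation in `ℕ` -/
theorem cancel_pr {a b : ℕ} {l l₁ l₂ : List ℕ} (hl : ∀ d ∈ l, 0 < d)
    (h : a * (pr (Fintype.card K) l * pr (Fintype.card K) l₁) = b * (pr (Fintype.card K) l * pr (Fintype.card K) l₂)) :
    a * pr (Fintype.card K) l₁ = b * pr (Fintype.card K) l₂ := by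
  have h1 : 0 < pr (Fintype.card K) l := by
    have h2 : 1 < Fintype.card K := Fintype.one_lt_card
    induction l with
    | nil => simp [pr_nil]
    | cons d l ih =>
      rw [pr_cons]
      have h3 : 1 < Fintype.card K ^ d := Nat.one_lt_pow (hl d (by simp)).ne' h2
      refine Nat.mul_pos (by omega) (ih (fun d hd => hl d (by simp [hd])) ?_)
      rw [pr_cons] at h
      have h4 : 0 < Fintype.card K ^ d - 1 := by omega
      refine Nat.eq_of_mul_eq_mul_left h4 ?_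
      calc (Fintype.card K ^ d - 1) * (a * (pr (Fintype.card K) l * pr (Fintype.card K) l₁)) =
          a * ((Fintype.card K ^ d - 1) * pr (Fintype.card K) l * pr (Fintype.card K) l₁) := by ring
        _ = _ := h
        _ = _ := by ring
  refine Nat.eq_of_mul_eq_mul_left h1 ?_
  calc pr (Fintype.card K) l * (a * pr (Fintype.card K) l₁) =
      a * (pr (Fintype.card K) l * pr (Fintype.card K) l₁) := by ring
    _ = _ := h
    _ = _ := by ring

theorem sq4 : ((Fintype.card K : ℕ) : ZMod q) ^ 4 = 1 := by rw [← h4]; exact pow_orderOf_eq_one _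

theorem red (n : ℕ) : ((Fintype.card K : ℕ) : ZMod q) ^ (n + 4) = ((Fintype.card K : ℕ) : ZMod q) ^ n := by
  rw [pow_add, sq4 h4, mul_one]

include hq2 in
theorem E6_ne : (((P7 K {j | j ∈ ([0, 1, 2, 3, 4, 5] : List (Fin 7))}).index : ℕ) : ZMod q) ≠ 0 := by
  intro h0
  have h1 := idx_E6 K
  have h2 : (P7 K {j | j ∈ ([0, 1, 2, 3, 4, 5] : List (Fin 7))}).index * pr (Fintype.card K) [1, 5, 9] =
      1 * pr (Fintype.card K) [10, 14, 18] := by
    refine cancel_pr h4 (l := [2, 6, 8, 12]) (by decide) ?_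
    calc _ = (P7 K {j | j ∈ ([0, 1, 2, 3, 4, 5] : List (Fin 7))}).index * pr (Fintype.card K) [1, 2, 5, 6, 8, 9, 12] := by
          simp only [pr_cons, pr_nil]; ring
      _ = pr (Fintype.card K) [2, 6, 8, 10, 12, 14, 18] := h1
      _ = _ := by simp only [pr_cons, pr_nil]; ring
  have h3 := congrArg (fun n : ℕ => (n : ZMod q)) h2
  simp only [Nat.cast_mul, cast_pr h4, h0, zero_mul, Nat.cast_one, one_mul, List.map_cons, List.map_nil,
    List.prod_cons, List.prod_nil, mul_one] at h3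
  have e10 : ((Fintype.card K : ℕ) : ZMod q) ^ 10 = -1 := by
    rw [show 10 = 6 + 4 by norm_num, red h4, show 6 = 2 + 4 by norm_num, red h4, sq_eq h4]
  have e14 : ((Fintype.card K : ℕ) : ZMod q) ^ 14 = -1 := by
    rw [show 14 = 10 + 4 by norm_num, red h4, e10]
  have e18 : ((Fintype.card K : ℕ) : ZMod q) ^ 18 = -1 := by
    rw [show 18 = 14 + 4 by norm_num, red h4, e14]
  rw [e10, e14, e18] at h3
  have h5 : (2 : ZMod q) ≠ 0 := by
    intro h
    have h6 : ((2 : ℕ) : ZMod q) = 0 := by exact_mod_cast h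
    rw [ZMod.natCast_eq_zero_iff] at h6
    exact hq2 ((Nat.prime_dvd_prime_iff_eq hq.out Nat.prime_two).1 h6)
  have h6 : (2 : ZMod q) ^ 3 = 0 := by linear_combination h3
  exact h5 (pow_eq_zero_iff (by norm_num) |>.1 h6)

theorem q_eq : (((Fintype.card K : ℕ) : ZMod q)) ^ 5 = ((Fintype.card K : ℕ) : ZMod q) ∧
    (((Fintype.card K : ℕ) : ZMod q)) ^ 9 = ((Fintype.card K : ℕ) : ZMod q) ∧
    (((Fintype.card K : ℕ) : ZMod q)) ^ 8 = 1 := by
  have e5 : ((Fintype.card K : ℕ) : ZMod q) ^ 5 = ((Fintype.card K : ℕ) : ZMod q) := by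
    rw [show 5 = 1 + 4 by norm_num, red h4, pow_one]
  refine ⟨e5, ?_, ?_⟩
  · rw [show 9 = 5 + 4 by norm_num, red h4, e5]
  · rw [show 8 = 4 + 4 by norm_num, red h4, sq4 h4]

/-- the factorization of `Q ^ 12 - 1` -/
theorem D5_aux {a b : ℕ}
    (h1 : a * pr (Fintype.card K) [1, 1, 2, 4, 5, 6, 8] = pr (Fintype.card K) [2, 6, 8, 10, 12, 14, 18])
    (h2 : b * pr (Fintype.card K) [1, 2, 5, 6, 8, 9, 12] = pr (Fintype.card K) [2, 6, 8, 10, 12, 14, 18]) :
    (a : ZMod q) = 3 * b := by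
  have hK1 : 1 ≤ Fintype.card K := Fintype.card_pos
  have h3 : a * pr (Fintype.card K) [1, 4] = b * pr (Fintype.card K) [9, 12] := by
    refine cancel_pr h4 (l := [1, 2, 5, 6, 8]) (by decide) ?_
    calc _ = a * pr (Fintype.card K) [1, 1, 2, 4, 5, 6, 8] := by simp only [pr_cons, pr_nil]; ring
      _ = b * pr (Fintype.card K) [1, 2, 5, 6, 8, 9, 12] := h1.trans h2.symm
      _ = _ := by simp only [pr_cons, pr_nil]; ring
  have e12 : Fintype.card K ^ 12 - 1 = (Fintype.card K ^ 4 - 1) * (Fintype.card K ^ 8 + Fintype.card K ^ 4 + 1) := by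
    have g4 : 1 ≤ Fintype.card K ^ 4 := Nat.one_le_pow _ _ hK1
    have g12 : 1 ≤ Fintype.card K ^ 12 := Nat.one_le_pow _ _ hK1
    zify [g4, g12]
    ring
  have h5 : a * pr (Fintype.card K) [1] = b * (Fintype.card K ^ 8 + Fintype.card K ^ 4 + 1) * pr (Fintype.card K) [9] := by
    refine cancel_pr h4 (l := [4]) (by decide) ?_
    calc _ = a * pr (Fintype.card K) [1, 4] := by simp only [pr_cons, pr_nil]; ring
      _ = _ := h3
      _ = _ := by simp only [pr_cons, pr_nil, e12]; ring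
  have h6 := congrArg (fun n : ℕ => (n : ZMod q)) h5
  simp only [Nat.cast_mul, cast_pr h4, List.map_cons, List.map_nil, List.prod_cons, List.prod_nil, mul_one,
    Nat.cast_add, Nat.cast_pow, Nat.cast_one, pow_one] at h6
  obtain ⟨-, e9, e8⟩ := q_eq h4
  rw [e9, e8, sq4 h4] at h6
  have h7 : ((a : ZMod q) - 3 * b) * (((Fintype.card K : ℕ) : ZMod q) - 1) = 0 := by linear_combination h6
  exact sub_eq_zero.1 ((mul_eq_zero.1 h7).resolve_right (sub_one_ne h4))

theorem D4_aux {a b : ℕ}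
    (h1 : a * pr (Fintype.card K) [1, 1, 1, 2, 4, 4, 6] = pr (Fintype.card K) [2, 6, 8, 10, 12, 14, 18])
    (h2 : b * pr (Fintype.card K) [1, 2, 5, 6, 8, 9, 12] = pr (Fintype.card K) [2, 6, 8, 10, 12, 14, 18]) :
    (a : ZMod q) = 6 * b := by
  have hK1 : 1 ≤ Fintype.card K := Fintype.card_pos
  have h3 : a * pr (Fintype.card K) [1, 1, 4, 4] = b * pr (Fintype.card K) [5, 8, 9, 12] := by
    refine cancel_pr h4 (l := [1, 2, 6]) (by decide) ?_
    calc _ = a * pr (Fintype.card K) [1, 1, 1, 2, 4, 4, 6] := by simp only [pr_cons, pr_nil]; ring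
      _ = b * pr (Fintype.card K) [1, 2, 5, 6, 8, 9, 12] := h1.trans h2.symm
      _ = _ := by simp only [pr_cons, pr_nil]; ring
  have g4 : 1 ≤ Fintype.card K ^ 4 := Nat.one_le_pow _ _ hK1
  have g8 : 1 ≤ Fintype.card K ^ 8 := Nat.one_le_pow _ _ hK1
  have g12 : 1 ≤ Fintype.card K ^ 12 := Nat.one_le_pow _ _ hK1
  have e12 : Fintype.card K ^ 12 - 1 = (Fintype.card K ^ 4 - 1) * (Fintype.card K ^ 8 + Fintype.card K ^ 4 + 1) := by
    zify [g4, g12]
    ring
  have e8' : Fintype.card K ^ 8 - 1 = (Fintype.card K ^ 4 - 1) * (Fintype.card K ^ 4 + 1) := by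
    zify [g4, g8]
    ring
  have h5 : a * pr (Fintype.card K) [1, 1] =
      b * ((Fintype.card K ^ 4 + 1) * (Fintype.card K ^ 8 + Fintype.card K ^ 4 + 1)) * pr (Fintype.card K) [5, 9] := by
    refine cancel_pr h4 (l := [4, 4]) (by decide) ?_
    calc _ = a * pr (Fintype.card K) [1, 1, 4, 4] := by simp only [pr_cons, pr_nil]; ring
      _ = _ := h3
      _ = _ := by simp only [pr_cons, pr_nil, e12, e8']; ring
  have h6 := congrArg (fun n : ℕ => (n : ZMod q)) h5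
  simp only [Nat.cast_mul, cast_pr h4, List.map_cons, List.map_nil, List.prod_cons, List.prod_nil, mul_one,
    Nat.cast_add, Nat.cast_pow, Nat.cast_one, pow_one] at h6
  obtain ⟨e5, e9, e8⟩ := q_eq h4
  rw [e5, e9, e8, sq4 h4] at h6
  have h7 : ((a : ZMod q) - 6 * b) * ((((Fintype.card K : ℕ) : ZMod q) - 1) *
      (((Fintype.card K : ℕ) : ZMod q) - 1)) = 0 := by linear_combination h6
  exact sub_eq_zero.1 ((mul_eq_zero.1 h7).resolve_right (mul_ne_zero (sub_one_ne h4) (sub_one_ne h4)))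

include hqK in
/-- `q` divides the index of the parabolic subgroups not containing the `D₄` -/
theorem dvd_index {J : Set (Fin 7)} {i : Fin 7} (hi : i ∈ ([1, 2, 3, 4] : List (Fin 7))) (hiJ : i ∉ J) :
    q ∣ (P7 K J).index := by
  obtain ⟨r, f, hrc, hr, hf, hK⟩ := exists_pow K
  have h2 := two_le hr hf
  have hrF : Fact r.Prime := ⟨hr⟩
  have hfin := finite_W hpE7 CoxeterMatrix.E₇.toCoxeterSystem
  have hR := rgd (K := K) hpE7 CoxeterMatrix.E₇.toCoxeterSystem r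
  have hpm : (q : ℤ) ∣ E (Fintype.card K) 4 := by
    have h5 := dvd_E (q := Fintype.card K) (p := q) (not_dvd_card hqK)
    rwa [h4] at h5
  rw [hK] at hpm
  have key : ∀ (J' : List (Fin 7)) (dJ : List ℕ), (∀ j, j ∈ J' ↔ j ≠ i) →
      (P7 K {j | j ∈ J'}).index * pr (Fintype.card K) dJ = pr (Fintype.card K) [2, 6, 8, 10, 12, 14, 18] →
      (∀ d ∈ dJ, 0 < d ∧ d < 31) → (∀ m < 31, cnt dJ m ≤ cnt [2, 6, 8, 10, 12, 14, 18] m) →
      cnt dJ 4 < cnt [2, 6, 8, 10, 12, 14, 18] 4 → q ∣ (P7 K J).index := by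
    intro J' dJ e1 e2 e3 e4 e5
    rw [hK] at e2
    refine (dvd_idx h2 (by decide) e3 e2 e4 hpm (by norm_num) e5).trans (Subgroup.index_dvd_of_le (H554.RG.PJ_mono hR ?_))
    intro j hj
    exact (e1 j).2 (fun h => hiJ (h ▸ hj))
  simp only [List.mem_cons, List.not_mem_nil, or_false] at hi
  rcases hi with rfl | rfl | rfl | rfl
  · exact key [0, 2, 3, 4, 5, 6] _ (by decide) (idx7 K fun r f _ _ _ _ _ R h2 hs => oE7_023456 R h2 hs) (by decide)
      (by decide) (by decide)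
  · exact key [0, 1, 3, 4, 5, 6] _ (by decide) (idx7 K fun r f _ _ _ _ _ R h2 hs => oE7_013456 R h2 hs) (by decide)
      (by decide) (by decide)
  · exact key [0, 1, 2, 4, 5, 6] _ (by decide) (idx7 K fun r f _ _ _ _ _ R h2 hs => oE7_012456 R h2 hs) (by decide)
      (by decide) (by decide)
  · exact key [0, 1, 2, 3, 5, 6] _ (by decide) (idx7 K fun r f _ _ _ _ _ R h2 hs => oE7_012356 R h2 hs) (by decide)
      (by decide) (by decide)

end Mod

end Cfsg.Agent.H949.PB
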