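import Cfsg.Agent.H949.PB.Idx
import Cfsg.Agent.H755.PB.RelC

/-!
# The sum over the parabolic subgroups of `E₇(r)` inside `E₆`, `q ∣ r² + 1` (helper949)

`sum_out` : `∑_{6 ∉ K} (-1) ^ |K| |G : P_K| reg q P_K ≡ |G : P_{E₆}| reg q P_{E₆} ≢ 0` modulo `q`.
-/

set_option autoImplicit false
set_option linter.unusedSectionVars false
set_option linter.unusedVariables false

namespace Cfsg.Agent.H949.PB

open CoxeterSystem Cfsg.Agent.ChevalleyStructure.CoxeterGeom Cfsg.Agent.Tits.Roots Cfsg.Agent.Tits.Core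
  Cfsg.Agent.Tits.RootComb Cfsg.Agent.Nodes.Reps Cfsg.Agent.Nodes.BNOf
  Cfsg.Agent.Nodes.StabComb Cfsg.Agent.Nodes.Bruhat Cfsg.Agent.Nodes.LeviDec Cfsg.Agent.H35.Poin
  Cfsg.Agent.H35.PoinNum Cfsg.Agent.H35.ExcIdx Cfsg.Agent.H134.StrP
  Cfsg.Agent.ChevalleyStructure.CoxeterGeomTypes Cfsg.Lie Cfsg.Agent.H116.RatB0
open Cfsg.Agent.Nodes.RGDChev Cfsg.Agent.ChevalleyStructure.NPerm
open Cfsg

universe u

variable {F : Type u} [Field F] [Fintype F] {q : ℕ} [hq : Fact q.Prime]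

/-- the sets of nodes outside `6` containing the `D₄` -/
theorem filter_D4 : (Finset.univ.filter fun K : Finset (Fin 7) => (6 : Fin 7) ∉ K ∧ ∀ i ∈ ([1, 2, 3, 4] : List (Fin 7)), i ∈ K) =
    {{0, 1, 2, 3, 4, 5}, {0, 1, 2, 3, 4}, {1, 2, 3, 4, 5}, {1, 2, 3, 4}} := by
  decide +kernel

/-- **The sum outside the node `6`.** -/
theorem sum_out (hq2 : q ≠ 2) (hqF : (q : F) ≠ 0) (h4 : orderOf ((Fintype.card F : ℕ) : ZMod q) = 4) :
    ((∑ K ∈ Finset.univ.filter fun K : Finset (Fin 7) => (6 : Fin 7) ∉ K,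
      (-1 : ℤ) ^ K.card * (((P7 F (K : Set (Fin 7))).index * reg q (P7 F (K : Set (Fin 7))) : ℕ) : ℤ) : ℤ) : ZMod q) ≠ 0 := by
  classical
  have hfin := finite_W hpE7 CoxeterMatrix.E₇.toCoxeterSystem
  set R : ZMod q := ((reg q (P7 F {j | j ≠ 6}) : ℕ) : ZMod q) with hR
  have hR0 : R ≠ 0 := by
    rw [hR, Ne, ZMod.natCast_eq_zero_iff]
    intro h
    have h1 : reg q (P7 F {j | j ≠ 6}) = reg q (⊤ : Subgroup (P7 F {j | j ≠ 6})) := by
      refine Nat.card_congr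
        { toFun := fun x => ⟨⟨x.1, x.2.1⟩, Subgroup.mem_top _, by rw [Subgroup.orderOf_mk]; exact x.2.2⟩
          invFun := fun x => ⟨x.1.1, x.1.2, by rw [Subgroup.orderOf_coe]; exact x.2.2⟩
          left_inv := fun x => rfl
          right_inv := fun x => rfl }
    rw [h1, reg_top] at h
    exact Cfsg.Agent.Blocks.RegularCount.not_dvd_card_regular h
  -- termwise
  have hterm : ∀ K : Finset (Fin 7), (6 : Fin 7) ∉ K →
      ((((P7 F (K : Set (Fin 7))).index * reg q (P7 F (K : Set (Fin 7))) : ℕ) : ℤ) : ZMod q) =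
        ((P7 F (K : Set (Fin 7))).index : ZMod q) * R := by
    intro K hK
    rw [Int.cast_natCast, Nat.cast_mul]
    rcases H755.PB.rel_E7_four hq2 hqF h4 CoxeterMatrix.E₇.toCoxeterSystem hpE7 (J := (K : Set (Fin 7)))
      (by simpa using hK) with h | h
    · have h1 : (((P7 F (K : Set (Fin 7))).index : ℕ) : ZMod q) = 0 := (ZMod.natCast_eq_zero_iff _ _).2 h
      rw [h1, zero_mul, zero_mul]
    · rw [hR]
      congr 1
      exact (ZMod.natCast_eq_natCast_iff _ _ _).2 h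
  rw [Int.cast_sum]
  have h1 : ∑ K ∈ Finset.univ.filter fun K : Finset (Fin 7) => (6 : Fin 7) ∉ K,
      (((-1 : ℤ) ^ K.card * (((P7 F (K : Set (Fin 7))).index * reg q (P7 F (K : Set (Fin 7))) : ℕ) : ℤ) : ℤ) : ZMod q) =
      ∑ K ∈ Finset.univ.filter fun K : Finset (Fin 7) => (6 : Fin 7) ∉ K ∧ ∀ i ∈ ([1, 2, 3, 4] : List (Fin 7)), i ∈ K,
        (-1 : ZMod q) ^ K.card * ((P7 F (K : Set (Fin 7))).index : ZMod q) * R := by
    have h2 : (Finset.univ.filter fun K : Finset (Fin 7) => (6 : Fin 7) ∉ K ∧ ∀ i ∈ ([1, 2, 3, 4] : List (Fin 7)), i ∈ K) ⊆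
        Finset.univ.filter fun K : Finset (Fin 7) => (6 : Fin 7) ∉ K := by
      intro K hK
      rw [Finset.mem_filter] at hK ⊢
      exact ⟨hK.1, hK.2.1⟩
    rw [← Finset.sum_subset h2]
    · refine Finset.sum_congr rfl fun K hK => ?_
      rw [Finset.mem_filter] at hK
      rw [Int.cast_mul, hterm K hK.2.1, Int.cast_pow, Int.cast_neg, Int.cast_one, mul_assoc]
    · intro K hK hK'
      rw [Finset.mem_filter] at hK hK'
      have h3 : ∃ i ∈ ([1, 2, 3, 4] : List (Fin 7)), i ∉ K := by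
        by_contra hcon
        push Not at hcon
        exact hK' ⟨hK.1, hK.2, hcon⟩
      obtain ⟨i, hi, hiK⟩ := h3
      have h5 : (((P7 F (K : Set (Fin 7))).index : ℕ) : ZMod q) = 0 :=
        (ZMod.natCast_eq_zero_iff _ _).2 (dvd_index hqF h4 hi (by simpa using hiK))
      rw [Int.cast_mul, hterm K hK.2, h5, zero_mul, mul_zero]
  rw [h1, filter_D4, Finset.sum_insert (by decide), Finset.sum_insert (by decide), Finset.sum_insert (by decide),
    Finset.sum_singleton]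
  have e1 : P7 F (({0, 1, 2, 3, 4, 5} : Finset (Fin 7)) : Set (Fin 7)) = P7 F {j | j ∈ ([0, 1, 2, 3, 4, 5] : List (Fin 7))} := by
    exact congrArg _ (by ext j; simp)
  have e2 : P7 F (({0, 1, 2, 3, 4} : Finset (Fin 7)) : Set (Fin 7)) = P7 F {j | j ∈ ([0, 1, 2, 3, 4] : List (Fin 7))} := by
    exact congrArg _ (by ext j; simp)
  have e3 : P7 F (({1, 2, 3, 4, 5} : Finset (Fin 7)) : Set (Fin 7)) = P7 F {j | j ∈ ([1, 2, 3, 4, 5] : List (Fin 7))} := by
    exact congrArg _ (by ext j; simp)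
  have e4 : P7 F (({1, 2, 3, 4} : Finset (Fin 7)) : Set (Fin 7)) = P7 F {j | j ∈ ([1, 2, 3, 4] : List (Fin 7))} := by
    exact congrArg _ (by ext j; simp)
  rw [e1, e2, e3, e4, D5_aux h4 (idx_D5 F) (idx_E6 F), D5_aux h4 (idx_D5' F) (idx_E6 F), D4_aux h4 (idx_D4 F) (idx_E6 F)]
  have hg := E6_ne hq2 h4
  have c1 : ({0, 1, 2, 3, 4, 5} : Finset (Fin 7)).card = 6 := by decide
  have c2 : ({0, 1, 2, 3, 4} : Finset (Fin 7)).card = 5 := by decide
  have c3 : ({1, 2, 3, 4, 5} : Finset (Fin 7)).card = 5 := by decide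
  have c4 : ({1, 2, 3, 4} : Finset (Fin 7)).card = 4 := by decide
  rw [c1, c2, c3, c4]
  intro h0
  apply mul_ne_zero hg hR0
  linear_combination h0

end Cfsg.Agent.H949.PB
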